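import Cfsg.Agent.Lib.Chev.TorusData
import Cfsg.Agent.Lib.Chev.SylE7

/-!
Checks for the elements of order sixty-five in E7 over the field of two elements: the residues of a torus element of
order thirteen, its stabiliser in the Weyl group, and the heights of the roots.
-/

set_option autoImplicit false
set_option maxRecDepth 100000

namespace Cfsg.Lib.Chev.E7SixtyFive

open Cfsg.Lie

/-- The residue of a root. -/
noncomputable def S13 (s : ℕ) : ℤ :=
  sumBelow (fun k => sylE7_12.bc tblE7 0 s k * 2 ^ k) 4 % 13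

/-- Every sequence of roots continuing a list with given keys and pairings ends among the given lists. -/
noncomputable def allTupIn (T : Tbl) (f : ℕ → ℕ) (leaf : List ℕ → Bool) : ℕ → List ℕ → Bool :=
  fun m => Nat.rec (motive := fun _ => List ℕ → Bool) leaf
    (fun _ r acc => allBelow (fun s =>
      !(Nat.beq (f s) (f (T.simp' acc.length)) &&
          allBelow (fun i => decide (rootPair T (nth 0 acc i) s = T.cartan i (T.simp' acc.length))) acc.length) ||
        r (acc ++ [s])) T.nroots) m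

/-- The residues of the roots at the element of order thirteen. -/
def keys : List ℕ :=
  [
    6, 12, 11, 3, 8, 1, 2, 4, 9, 2, 3, 1, 7, 8, 12, 0, 6, 0, 6, 7, 11, 12, 5, 3, 4, 10, 2, 4, 5, 11, 3, 8, 7,
    6, 12, 0, 4, 5, 11, 9, 10, 3, 8, 8, 9, 2, 7, 12, 10, 11, 4, 9, 1, 9, 10, 3, 8, 1, 2, 8, 6, 7, 12, 1, 6, 7,
    5, 11, 12, 5, 10, 3, 4, 12, 4, 9, 2, 3, 1, 6, 11, 4, 5, 5, 10, 3, 4, 2, 8, 9, 0, 1, 7, 6, 5, 10, 2, 8, 9,
    11, 3, 9, 10, 8, 1, 2, 6, 7, 0, 7, 0, 1, 5, 6, 12, 10, 11, 4, 9, 11, 12, 5, 10, 2, 1, 7]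

/-- The stabiliser: words with the images of the simple roots. -/
def stab : List (List ℕ × List ℕ) :=
  [

    ([5, 4, 3, 0, 2, 1, 3, 4, 5, 6, 5, 1, 3, 4, 2, 3, 0, 2, 1, 3, 4, 5, 1, 3, 2, 0], [33, 78, 68, 69, 112, 0, 111]),
    ([5, 4, 3, 0, 2, 1, 3, 4, 5, 6, 5, 4, 3, 2, 1, 3, 4, 5, 0], [33, 78, 114, 69, 66, 18, 63]),
    ([5, 4, 3, 0, 2, 1, 3, 4, 5, 6, 0, 2, 3, 4, 5, 1, 3, 4, 2, 3, 0, 2, 1, 3, 4, 5, 0], [60, 78, 68, 69, 94, 0, 124]),
    ([5, 4, 3, 0, 2, 1, 3, 4, 5, 6, 4, 5, 3, 4, 2, 3, 0, 2, 1, 3, 4, 5, 1, 3, 4, 0], [60, 78, 114, 69, 37, 18, 91]),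
    ([2, 3, 0, 2, 1, 3, 4, 5, 4, 3, 2, 1, 3, 0, 2], [93, 78, 21, 69, 112, 16, 111]),
    ([], [93, 78, 73, 69, 66, 64, 63]),
    ([2, 3, 4, 5, 1, 3, 4, 2, 3, 0, 2, 1, 3, 4, 5, 0, 2, 3, 4, 1, 3, 2], [106, 78, 21, 69, 94, 16, 124]),
    ([4, 3, 2, 1, 3, 4, 5, 4, 3, 2, 1, 3, 4], [106, 78, 73, 69, 37, 64, 91])]

/-- The coefficients of the sum of the positive coroots. -/
def rho : List ℤ := [34, 49, 66, 96, 75, 52, 27]

/-- The sum of the positive coroots at a root. -/
noncomputable def height (s : ℕ) : ℤ := sumBelow (fun j => nth 0 rho j * tblE7.cartan j s) 7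

/-- A root is in the list. -/
noncomputable def leafStab (acc : List ℕ) : Bool :=
  List.rec (motive := fun _ => Bool) false (fun p _ r => eqNats acc p.2 || r) stab

/-- The simple roots. -/
noncomputable def leafSimple (acc : List ℕ) : Bool :=
  eqNats acc ((List.range 7).map tblE7.simp')

theorem keys_ok : allBelow (fun s => Nat.beq ((S13 s).toNat) (nth 0 keys s)) 126 = true := by decide +kernel

theorem stab_search : allTupIn tblE7 (fun s => nth 0 keys s) leafStab 7 [] = true := by decide +kernel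

theorem height_search : allTupIn tblE7 (fun s => (height s + 34).toNat) leafSimple 7 [] = true := by decide +kernel

theorem height_facts : allBelow (fun s => decide (height s ≠ 0 ∧ -34 ≤ height s ∧ height s ≤ 34)) 126 = true := by
  decide +kernel

theorem sylE7_twelve_order : ∀ k < 7,
    wperm tblE7 (List.replicate 12 sylE7_12.w).flatten (tblE7.simp' k) = tblE7.simp' k := by decide +kernel

/-- The two annihilating polynomials of the coset. -/
def cosetPolys : List (List ℤ) := [[-1, 0, 1, 1, -1, -1, 0], [1, 0, -1, 1, 1, -1, 0]]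

/-- The value at two. -/
noncomputable def polyTwo (P : List ℤ) : ℤ := 128 + sumBelow (fun i => nth 0 P i * 2 ^ i) 7

/-- The iterates of a word on a root. -/
noncomputable def iterW (u : List ℕ) (r i : ℕ) : ℕ :=
  Nat.rec (motive := fun _ => ℕ) r (fun _ x => wperm tblE7 u x) i

/-- The polynomial annihilates the word on the root. -/
noncomputable def annSeven (u : List ℕ) (P : List ℤ) (r : ℕ) : Bool :=
  let it := iterW u r
  allBelow (fun j => decide (tblE7.cartan j (it 7) + sumBelow (fun i => nth 0 P i * tblE7.cartan j (it i)) 7 = 0)) 7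

theorem coset_ok : ∀ p ∈ stab, (∀ i ∈ p.1, i < 7) ∧ (∀ k < 7, wperm tblE7 p.1 (tblE7.simp' k) = nth 0 p.2 k) ∧
    (∀ k < 7, wperm tblE7 (p.1 ++ p.1) (tblE7.simp' k) = tblE7.simp' k) ∧
    ∃ i < 2, ((∀ k < 7, annSeven (sylE7_12.w ++ p.1) (nth [] cosetPolys i) (tblE7.simp' k) = true) ∧
      polyTwo (nth [] cosetPolys i) % 5 ≠ 0) := by decide +kernel

end Cfsg.Lib.Chev.E7SixtyFive
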