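import Cfsg.Agent.Lib.Chev.E7SixtyFive.Checks
import Cfsg.Agent.Lib.Chev.OrderE7
import Cfsg.Agent.Lib.Chev.AltSection.Torus

/-!
E7 over the field of two elements has no element of order sixty-five.
-/

set_option autoImplicit false
set_option linter.unusedSectionVars false
set_option maxRecDepth 100000
set_option maxHeartbeats 400000

namespace Cfsg.Lib.Chev.E7SixtyFive

open Cfsg.Lie Cfsg.Lib.Chev

private theorem cE : Cert chevE7 tblE7 := fullCertE7.comm.cert

theorem sOK : SylOK chevE7 tblE7 1 sylE7_12 := sylOK_of_chk cE chkSyl_E7_12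

section Abstract

theorem zpow_sum_eq {G : Type*} [CommGroup G] (x : G) (f : ℕ → ℤ) (s : Finset ℕ) :
    x ^ (∑ i ∈ s, f i) = ∏ i ∈ s, x ^ f i := by
  induction s using Finset.induction with
  | empty => simp
  | insert a t ha ih => rw [Finset.sum_insert ha, Finset.prod_insert ha, zpow_add, ih]

/-- A relation between iterated exponents kills a character. -/
theorem poly_rel {G : Type*} [CommGroup G] {n m : ℕ} (c : Fin n → G) (cart : Fin n → ℕ → ℤ) (its : ℕ → ℕ)
    (P : ℕ → ℤ) (χ : G) (q : ℤ) (hit : ∀ i, ∏ j, c j ^ cart j (its i) = χ ^ q ^ i)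
    (hz : ∀ j, cart j (its m) + ∑ i ∈ Finset.range m, P i * cart j (its i) = 0) :
    χ ^ (q ^ m + ∑ i ∈ Finset.range m, P i * q ^ i) = 1 := by
  rw [zpow_add, ← hit, zpow_sum_eq]
  simp only [mul_comm (P _) (q ^ _), zpow_mul, ← hit, ← Finset.prod_zpow]
  rw [Finset.prod_comm, ← Finset.prod_mul_distrib]
  refine Finset.prod_eq_one fun j _ => ?_
  simp only [← zpow_mul, mul_comm (cart j _) (P _)]
  rw [← zpow_sum_eq, ← zpow_add, hz, zpow_zero]

theorem allTupIn_succ (T : Tbl) (f : ℕ → ℕ) (leaf : List ℕ → Bool) (m : ℕ) (acc : List ℕ) :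
    allTupIn T f leaf (m + 1) acc = allBelow (fun s =>
      !(Nat.beq (f s) (f (T.simp' acc.length)) &&
          allBelow (fun i => decide (rootPair T (nth 0 acc i) s = T.cartan i (T.simp' acc.length))) acc.length) ||
        allTupIn T f leaf m (acc ++ [s])) T.nroots := rfl

theorem exists_of_rec (acc : List ℕ) : ∀ l : List (List ℕ × List ℕ),
    List.rec (motive := fun _ => Bool) false (fun p _ r => eqNats acc p.2 || r) l = true → ∃ p ∈ l, acc = p.2
  | [], h => absurd h Bool.false_ne_true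
  | p :: l, h => by
    change (eqNats acc p.2 || _) = true at h
    rw [Bool.or_eq_true] at h
    rcases h with h | h
    · exact ⟨p, List.mem_cons_self .., eqNats_iff _ _ h⟩
    · obtain ⟨q, hq, e⟩ := exists_of_rec acc l h
      exact ⟨q, List.mem_cons_of_mem _ hq, e⟩

theorem commute_of_mem_zpowers {G : Type*} [Group G] {y z : G} {m l : ℕ} (h : z ∈ Subgroup.zpowers (y ^ l)) :
    Commute (y ^ m) z := by
  obtain ⟨k, rfl⟩ := h
  exact ((Commute.refl y).pow_pow m l).zpow_right k

end Abstract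

section Generic

variable {L : Type*} [Field L]

theorem uchr_pow' (c : Fin chevE7.rank → Lˣ) (m r : ℕ) : uchr cE (c ^ m) r = uchr cE c r ^ m := by
  simp only [uchr, Pi.pow_apply, ← Finset.prod_pow]
  refine Finset.prod_congr rfl fun j _ => ?_
  rw [← zpow_natCast, ← zpow_natCast, ← zpow_mul, ← zpow_mul, mul_comm]

theorem uchr_one' (r : ℕ) : uchr cE (1 : Fin chevE7.rank → Lˣ) r = 1 := by simp [uchr]

variable [CharP L 2]

theorem torusHom_inj : Function.Injective (torusHom chevE7 tblE7 L) :=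
  torusHom_injective_scalar cE inv_E7 fun x hx => by
    have h2 : ((x : L) - 1) ^ 2 = 0 := by
      have hx' : ((x : L)) ^ 2 = 1 := by simpa using congrArg Units.val hx
      rw [sub_sq, hx']
      linear_combination (1 - (x : L)) * (CharTwo.two_eq_zero (R := L))
    exact Units.ext (by simpa [sub_eq_zero] using h2)

theorem torusHom_eq_uchr {c c' : Fin chevE7.rank → Lˣ} (h : torusHom chevE7 tblE7 L c = torusHom chevE7 tblE7 L c')
    {r : ℕ} (hr : r < chevE7.nroots) : uchr cE c r = uchr cE c' r :=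
  Units.ext (by rw [coe_uchr, coe_uchr]; exact chr_eq_of_torusHom cE h hr)

theorem mem_diag (c : Fin chevE7.rank → Lˣ) : torusHom chevE7 tblE7 L c ∈ chevE7.diagonalSubgroup L := by
  rw [← torusHom_range cE]; exact ⟨c, rfl⟩

theorem mem_group (c : Fin chevE7.rank → Lˣ) : torusHom chevE7 tblE7 L c ∈ chevE7.group L :=
  monomial_le_group cE (diag_le_monomial cE (mem_diag c))

/-- A root is determined through a Weyl element by the images of the simple roots. -/
theorem search_sound {f : ℕ → ℕ} {leaf : List ℕ → Bool} (h : allTupIn tblE7 f leaf 7 [] = true) {v : List ℕ}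
    (hv : IsWord chevE7 v) (hf : ∀ k < chevE7.rank, f (wperm tblE7 v (tblE7.simp' k)) = f (tblE7.simp' k)) :
    leaf ((List.range 7).map fun k => wperm tblE7 v (tblE7.simp' k)) = true := by
  let im := fun k => wperm tblE7 v (tblE7.simp' k)
  suffices key : ∀ m k, k + m = 7 → allTupIn tblE7 f leaf m ((List.range k).map im) = true →
      leaf ((List.range 7).map im) = true from key 7 0 (by omega) h
  intro m
  induction m with
  | zero =>
    intro k hk ht
    rw [add_zero] at hk
    subst hk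
    exact ht
  | succ m ih =>
    intro k hk ht
    have hkr : k < chevE7.rank := by rw [show chevE7.rank = 7 from rfl]; omega
    rw [allTupIn_succ, allBelow_iff] at ht
    have hs := ht (im k) (by rw [cE.spec.shape.nroots_eq]; exact wperm_lt cE hv (cE.spec.simp_lt k hkr))
    rw [Bool.or_eq_true] at hs
    refine ih (k + 1) (by omega) ?_
    rw [List.range_succ, List.map_append, List.map_singleton]
    refine hs.resolve_left fun hbad => ?_
    simp only [List.length_map, List.length_range, Bool.not_eq_true', ← Bool.not_eq_true, Bool.and_eq_true,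
      Nat.beq_eq, allBelow_iff, decide_eq_true_eq] at hbad
    refine hbad ⟨hf k hkr, fun i hi => ?_⟩
    rw [nth_eq, List.getD_eq_getElem _ _ (by simpa using hi), List.getElem_map, List.getElem_range]
    show rootPair tblE7 (wperm tblE7 v (tblE7.simp' i)) (wperm tblE7 v (tblE7.simp' k)) = _
    rw [rootPair_wperm cE hv (cE.spec.simp_lt i (hi.trans hkr)) (cE.spec.simp_lt k hkr),
      rootPair_simple cE (hi.trans hkr)]

theorem leafStab_mem {acc : List ℕ} (h : leafStab acc = true) : ∃ p ∈ stab, acc = p.2 :=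
  exists_of_rec acc stab h

/-- The parameter of the element of order thirteen. -/
noncomputable def param (u : Lˣ) : Fin chevE7.rank → Lˣ := fun j => u ^ sylE7_12.xval 2 0 j

theorem uchr_param (u : Lˣ) (s : ℕ) : uchr cE (param u) s = u ^ sylE7_12.bval tblE7 2 0 s := by
  rw [bval_eq cE]
  simp only [uchr, param, ← zpow_mul]
  rw [Fin.prod_univ_eq_prod_range (fun j => u ^ (sylE7_12.xval 2 0 j * tblE7.cartan j s)) chevE7.rank]
  induction Finset.range chevE7.rank using Finset.induction with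
  | empty => simp
  | insert b t hb ih => rw [Finset.prod_insert hb, Finset.sum_insert hb, zpow_add, ih]

theorem bval_key {s : ℕ} (hs : s < chevE7.nroots) :
    sylE7_12.bval tblE7 2 0 s % 13 = (nth 0 keys s : ℕ) := by
  have h1 := Nat.eq_of_beq_eq_true (allBelow_iff.1 keys_ok s hs)
  rw [← h1, S13, Int.toNat_of_nonneg (Int.emod_nonneg _ (by norm_num))]
  simp only [SylTor.bval, sumBelow_eq]
  rfl

theorem param_qact {u : Lˣ} (hu : u ^ 13 = 1) {s : ℕ} (hs : s < chevE7.nroots) :
    uchr cE (param u) (wperm tblE7 sylE7_12.w s) = uchr cE (param u) s ^ 2 := by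
  rw [uchr_param, uchr_param, bval_step cE sOK 2 one_pos hs, show sylE7_12.val 2 = 13 by decide +kernel,
    zpow_sub, mul_comm (2 : ℤ), zpow_mul, mul_comm _ (13 : ℤ), zpow_mul u (13 : ℤ),
    show (2 : ℤ) = ((2 : ℕ) : ℤ) from rfl, show (13 : ℤ) = ((13 : ℕ) : ℤ) from rfl, zpow_natCast, zpow_natCast u 13,
    hu, one_zpow, inv_one, mul_one]

/-- A word fixing the character of the parameter is one of the stabiliser. -/
theorem stab_word {u : Lˣ} (hu : orderOf u = 13) {v : List ℕ} (hv : IsWord chevE7 v)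
    (h : ∀ k < chevE7.rank, uchr cE (param u) (wperm tblE7 v (tblE7.simp' k)) = uchr cE (param u) (tblE7.simp' k)) :
    ∃ p ∈ stab, IsWord chevE7 p.1 ∧ SamePerm chevE7 tblE7 v p.1 := by
  have hkey : ∀ k < chevE7.rank, nth 0 keys (wperm tblE7 v (tblE7.simp' k)) = nth 0 keys (tblE7.simp' k) := by
    intro k hk
    have hs := cE.spec.simp_lt k hk
    have e := h k hk
    rw [uchr_param, uchr_param, ← mul_inv_eq_one, ← zpow_sub, ← orderOf_dvd_iff_zpow_eq_one, hu] at e
    have e2 : sylE7_12.bval tblE7 2 0 (wperm tblE7 v (tblE7.simp' k)) % 13 =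
        sylE7_12.bval tblE7 2 0 (tblE7.simp' k) % 13 :=
      Int.emod_eq_emod_iff_emod_sub_eq_zero.2 (Int.emod_eq_zero_of_dvd e)
    rw [bval_key (wperm_lt cE hv hs), bval_key hs] at e2
    exact_mod_cast e2
  obtain ⟨p, hp, he⟩ := leafStab_mem (search_sound stab_search hv hkey)
  obtain ⟨hw, him, -, -⟩ := coset_ok p hp
  refine ⟨p, hp, hw, samePerm_of_simple cE fullCertE7 hv hw fun k hk => ?_⟩
  rw [him k hk, ← he, nth_eq, List.getD_eq_getElem _ _ (by rw [List.length_map, List.length_range]; exact hk)]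
  simp

theorem wnu_eq_of_perm {v w : List ℕ} (hv : IsWord chevE7 v) (hw : IsWord chevE7 w)
    (h : ∀ k < chevE7.rank, wperm tblE7 v (tblE7.simp' k) = wperm tblE7 w (tblE7.simp' k)) :
    wnu cE L v = wnu cE L w := by
  haveI : Fact (Nat.Prime 2) := ⟨Nat.prime_two⟩
  let ι : ZMod 2 →+* L := ZMod.castHom dvd_rfl L
  have h1 := same_of_perm cE fullCertE7 (F := ZMod 2) hv hw h
  rw [← torusHom_range cE] at h1
  obtain ⟨c, hc⟩ := h1
  have : c = 1 := funext fun j => Subsingleton.elim _ _
  rw [this, map_one] at hc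
  rw [← map_wnu cE ι v, ← map_wnu cE ι w, inv_mul_eq_one.1 hc.symm]

theorem wnu_replicate (w : List ℕ) : ∀ m, wnu cE L (List.replicate m w).flatten = wnu cE L w ^ m
  | 0 => by simp [wnu]
  | m + 1 => by rw [List.replicate_succ, List.flatten_cons, wnu_append, wnu_replicate w m, pow_succ']

/-- One word acts on the parameters of all the fixed elements brought into the torus by a conjugation. -/
theorem exists_qact (σ : L →+* L) (hσ : ∀ x, σ x = x ^ 2) {g : GL chevE7.Idx L} (hg : g ∈ chevE7.group L) :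
    ∃ v, IsWord chevE7 v ∧ ∀ (Z : GL chevE7.Idx L) (c : Fin chevE7.rank → Lˣ),
      Matrix.GeneralLinearGroup.map σ Z = Z → g⁻¹ * Z * g = torusHom chevE7 tblE7 L c →
        ∀ r < chevE7.nroots, uchr cE c (wperm tblE7 v r) = uchr cE c r ^ 2 := by
  let M := Matrix.GeneralLinearGroup.map (n := chevE7.Idx) σ
  obtain ⟨n, hn, hfus⟩ := G2Alt.torus_fusion cE fullCertE7
    (mul_mem (inv_mem (map_group_le cE σ hg)) hg : (M g)⁻¹ * g ∈ chevE7.group L)
  obtain ⟨u, -, hu, d, hd, rfl⟩ := G2Alt.monomial_word cE fullCertE7 chkWeylE7 hn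
  refine ⟨u.reverse, hu.reverse, fun Z c hZ hc r hr => ?_⟩
  let c' : Fin chevE7.rank → Lˣ := fun i => Units.map σ.toMonoidHom (c i)
  have e1 : M (torusHom chevE7 tblE7 L c) = torusHom chevE7 tblE7 L c' := map_torusHom cE σ c
  have e2 : M (torusHom chevE7 tblE7 L c) = ((M g)⁻¹ * g) * torusHom chevE7 tblE7 L c * ((M g)⁻¹ * g)⁻¹ := by
    rw [← hc, map_mul, map_mul, map_inv, show M Z = Z from hZ]
    group
  have e3 := hfus _ (mem_diag c) (by rw [← e2, e1]; exact mem_diag c')
  rw [← e2, e1] at e3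
  obtain ⟨e, he, hchr⟩ := torus_word_conj cE hu c
  have e4 : torusHom chevE7 tblE7 L c' = torusHom chevE7 tblE7 L e := by
    rw [e3, ← he, mul_inv_rev, show ∀ w : GL chevE7.Idx L, w * d * torusHom chevE7 tblE7 L c * (d⁻¹ * w⁻¹) =
      w * (d * torusHom chevE7 tblE7 L c * d⁻¹) * w⁻¹ from fun w => by group,
      G2Alt.diag_commute cE hd (mem_diag c), mul_inv_cancel_right]
  have hr' := wperm_lt cE hu.reverse hr
  have hrev := wperm_reverse cE hu.reverse hr
  rw [List.reverse_reverse] at hrev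
  refine Units.ext ?_
  rw [coe_uchr, Units.val_pow_eq_pow_val, coe_uchr, ← hσ, ← hchr _ hr', hrev, ← chr_eq_of_torusHom cE e4 hr]
  simp only [chr, map_prod, map_zpow₀]
  refine Finset.prod_congr rfl fun j hj => ?_
  simp [extend', Finset.mem_range.1 hj, c']

/-- Eigenvalue two is missing from the coset. -/
theorem coset_zero {p : List ℕ × List ℕ} (hp : p ∈ stab) {c : Fin chevE7.rank → Lˣ} (hc : c ^ 5 = 1)
    (h : ∀ r < chevE7.nroots, uchr cE c (wperm tblE7 (sylE7_12.w ++ p.1) r) = uchr cE c r ^ 2) : c = 1 := by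
  obtain ⟨hw, -, -, i, -, hann, hval⟩ := coset_ok p hp
  set U := sylE7_12.w ++ p.1
  have hU : IsWord chevE7 U := sOK.isWord.append hw
  set P := nth [] cosetPolys i
  haveI : Fact (Nat.Prime 5) := ⟨by norm_num⟩
  refine torusHom_inj ((MonoidHom.mem_ker (f := torusHom chevE7 tblE7 L)).1 ?_ |>.trans (map_one _).symm)
  rw [torusHom_ker cE, MonoidHom.mem_ker]
  funext k
  show ∏ j, c j ^ cartanMat chevE7 tblE7 k j = 1
  by_contra hk
  set χ := uchr cE c (tblE7.simp' k) with hχ
  have hord : orderOf χ = 5 := orderOf_eq_prime (by rw [hχ, ← uchr_pow', hc, uchr_one']) hk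
  have hit : ∀ i, iterW U (tblE7.simp' k) i < chevE7.nroots ∧
      uchr cE c (iterW U (tblE7.simp' k) i) = χ ^ ((2 : ℤ) ^ i) := by
    intro i
    induction i with
    | zero => exact ⟨cE.spec.simp_lt k k.2, by rw [pow_zero, zpow_one]; rfl⟩
    | succ i ih =>
      have e : iterW U (tblE7.simp' k) (i + 1) = wperm tblE7 U (iterW U (tblE7.simp' k) i) := rfl
      refine ⟨e ▸ wperm_lt cE hU ih.1, ?_⟩
      rw [e, h _ ih.1, ih.2, ← zpow_natCast, ← zpow_mul, pow_succ]
      rfl
  have hpoly : polyTwo P = 2 ^ 7 + ∑ i ∈ Finset.range 7, nth 0 P i * 2 ^ i := by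
    rw [polyTwo, sumBelow_eq]; norm_num
  refine hval (Int.emod_eq_zero_of_dvd ?_)
  rw [show (5 : ℤ) = (orderOf χ : ℕ) by rw [hord]; rfl, orderOf_dvd_iff_zpow_eq_one, hpoly]
  have hann' := hann k k.2
  simp only [annSeven, allBelow_iff, decide_eq_true_eq, sumBelow_eq] at hann'
  exact poly_rel c (fun j s => tblE7.cartan j s) (iterW U (tblE7.simp' k)) (fun i => nth 0 P i) χ 2
    (fun i => (hit i).2) (fun j => hann' j j.2)

/-- The parameter with the sum of the coroots. -/
noncomputable def rhoParam (z : Lˣ) : Fin chevE7.rank → Lˣ := fun j => z ^ nth 0 rho j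

theorem uchr_rho (z : Lˣ) (s : ℕ) : uchr cE (rhoParam z) s = z ^ height s := by
  simp only [uchr, rhoParam, height, sumBelow_eq, ← zpow_mul]
  rw [Fin.prod_univ_eq_prod_range (fun j => z ^ (nth 0 rho j * tblE7.cartan j s)) chevE7.rank,
    show chevE7.rank = 7 from rfl]
  induction Finset.range 7 using Finset.induction with
  | empty => simp
  | insert b t hb ih => rw [Finset.prod_insert hb, Finset.sum_insert hb, zpow_add, ih]

theorem rho_centralizer {z : Lˣ} (hz : orderOf z = 125) {g : GL chevE7.Idx L} (hg : g ∈ chevE7.group L)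
    (h : torusHom chevE7 tblE7 L (rhoParam z) * g = g * torusHom chevE7 tblE7 L (rhoParam z)) :
    g ∈ chevE7.diagonalSubgroup L := by
  have hb : ∀ s < chevE7.nroots, height s ≠ 0 ∧ -34 ≤ height s ∧ height s ≤ 34 := fun s hs =>
    of_decide_eq_true (allBelow_iff.1 height_facts s hs)
  have hsmall : ∀ a : ℤ, z ^ a = 1 → -125 < a → a < 125 → a = 0 := fun a e h1 h2 => by
    rw [← orderOf_dvd_iff_zpow_eq_one, hz] at e
    omega
  refine centralizer_regular cE fullCertE7 (fun r hr e => ?_) (fun v hv e k hk => ?_) hg h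
  · obtain ⟨h0, h1, h2⟩ := hb r hr
    refine h0 (hsmall _ ?_ (by omega) (by omega))
    rw [← uchr_rho]
    exact Units.ext (by rw [coe_uchr, e, Units.val_one])
  · have hkey : ∀ i < chevE7.rank, (height (wperm tblE7 v (tblE7.simp' i)) + 34).toNat =
        (height (tblE7.simp' i) + 34).toNat := by
      intro i hi
      have hs := cE.spec.simp_lt i hi
      obtain ⟨-, h1, h2⟩ := hb _ hs
      obtain ⟨-, h3, h4⟩ := hb _ (wperm_lt cE hv hs)
      have e1 : z ^ height (wperm tblE7 v (tblE7.simp' i)) = z ^ height (tblE7.simp' i) := by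
        rw [← uchr_rho, ← uchr_rho]; exact Units.ext (by rw [coe_uchr, coe_uchr, e i hi])
      rw [← mul_inv_eq_one, ← zpow_sub] at e1
      have := hsmall _ e1 (by omega) (by omega)
      omega
    have hl := eqNats_iff _ _ (search_sound height_search hv hkey)
    exact List.map_inj_left.1 hl k (List.mem_range.2 hk)

end Generic

/-- A subgroup of index prime to five in a centraliser contains a conjugate of every element of order five. -/
theorem exists_conj_of_no_growth {C : Type*} [Group C] [Finite C] {p : ℕ} [Fact p.Prime] (P : Subgroup C)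
    (hP : IsPGroup p P) (hgrow : ∀ n : C, n ∈ Subgroup.normalizer (P : Set C) → (∃ k, n ^ p ^ k = 1) → n ∈ P)
    {x : C} (hx : x ^ p = 1) : ∃ c : C, c⁻¹ * x * c ∈ P := by
  obtain ⟨R, hR⟩ := hP.exists_le_sylow
  have hRP : P = (R : Subgroup C) := by
    by_contra hne
    have hlt : P.subgroupOf (R : Subgroup C) < ⊤ := by
      rw [lt_top_iff_ne_top, Ne, Subgroup.subgroupOf_eq_top]
      exact fun h => hne (le_antisymm hR h)
    haveI : Group.IsNilpotent ↥(R : Subgroup C) := R.isPGroup'.isNilpotent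
    obtain ⟨n, hn1, hn2⟩ := SetLike.exists_of_lt
      (normalizerCondition_of_isNilpotent (G := ↥(R : Subgroup C)) _ hlt)
    refine hn2 (Subgroup.mem_subgroupOf.2 (hgrow n (Subgroup.mem_normalizer_iff.2 fun y => ⟨fun hy => ?_, fun hy => ?_⟩) ?_))
    · exact Subgroup.mem_subgroupOf.1 (((Subgroup.mem_normalizer_iff.1 hn1) ⟨y, hR hy⟩).1 (Subgroup.mem_subgroupOf.2 hy))
    · have hyR : y ∈ (R : Subgroup C) := by
        have h2 := mul_mem (mul_mem (inv_mem n.2) (hR hy)) n.2
        rwa [show ((n : C))⁻¹ * ((n : C) * y * (n : C)⁻¹) * (n : C) = y by group] at h2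
      exact Subgroup.mem_subgroupOf.1 (((Subgroup.mem_normalizer_iff.1 hn1) ⟨y, hyR⟩).2 (Subgroup.mem_subgroupOf.2 hy))
    · obtain ⟨k, hk⟩ := R.isPGroup' n
      exact ⟨k, by rw [← Subgroup.coe_pow, hk, Subgroup.coe_one]⟩
  have hxp : IsPGroup p ↥(Subgroup.zpowers x) := by
    rintro ⟨z, k, rfl⟩
    refine ⟨1, Subtype.ext ?_⟩
    show (x ^ k) ^ p ^ 1 = 1
    rw [pow_one, ← zpow_natCast, ← zpow_mul, mul_comm, zpow_mul, zpow_natCast, hx, one_zpow]
  obtain ⟨R', hR'⟩ := hxp.exists_le_sylow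
  obtain ⟨c, hc⟩ := MulAction.exists_smul_eq C R' R
  refine ⟨c⁻¹, ?_⟩
  rw [inv_inv, hRP]
  have h2 : c * x * c⁻¹ ∈ ((c • R' : Sylow p C) : Subgroup C) := by
    rw [Sylow.coe_subgroup_smul]
    exact ⟨x, hR' (Subgroup.mem_zpowers x), rfl⟩
  rwa [hc] at h2

/-- The overfield. -/
abbrev BigF : Type := FiniteField.Extension (ZMod 2) 2 300

instance : Fact (Nat.Prime 2) := ⟨Nat.prime_two⟩

instance : CharP BigF 2 := charP_of_injective_algebraMap (algebraMap (ZMod 2) BigF).injective 2

theorem card_bigF : Nat.card BigF = 2 ^ 300 := by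
  rw [FiniteField.natCard_extension, Nat.card_zmod]

theorem exists_unit {m : ℕ} (hm : m ≠ 0) (h : m ∣ 2 ^ 300 - 1) : ∃ u : BigFˣ, orderOf u = m := by
  haveI : IsCyclic BigFˣ := inferInstance
  obtain ⟨g, hg⟩ := IsCyclic.exists_ofOrder_eq_natCard (α := BigFˣ)
  rw [Nat.card_units, card_bigF] at hg
  obtain ⟨k, hk⟩ := h
  have hk0 : k ≠ 0 := fun e => by
    rw [e, mul_zero] at hk
    exact absurd hk (by decide +kernel)
  refine ⟨g ^ k, ?_⟩
  rw [orderOf_pow' _ hk0, hg, hk, Nat.gcd_mul_left_left, Nat.mul_div_cancel _ (Nat.pos_of_ne_zero hk0)]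

theorem group_thirteen : (Nat.card ↥(chevE7.group (ZMod 2))).factorization 13 = 1 := by
  haveI : Finite (GL chevE7.Idx (ZMod 2)) := inferInstance
  have h := order_formula (F := ZMod 2) cE fullCertE7 chkWeylE7 torusCertE7
    (R := (Nat.card (ZMod 2) ^ 2 - 1) * (Nat.card (ZMod 2) ^ 6 - 1) * (Nat.card (ZMod 2) ^ 8 - 1) *
      (Nat.card (ZMod 2) ^ 10 - 1) * (Nat.card (ZMod 2) ^ 12 - 1) * (Nat.card (ZMod 2) ^ 14 - 1) *
      (Nat.card (ZMod 2) ^ 18 - 1))
    (polyE7 Nat.card_pos)
  have h1 : (∏ k, (Nat.card (ZMod 2) - 1).gcd ((![1, 1, 1, 1, 1, 1, 2] : Fin 7 → ℕ) k)) = 1 :=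
    Finset.prod_eq_one fun k _ => by rw [Nat.card_zmod, Nat.add_one_sub_one, Nat.gcd_one_left]
  erw [h1, one_mul] at h
  rw [h]
  have hp : (13 : ℕ).Prime := by norm_num
  generalize hN : (Nat.card (ZMod 2) ^ (chevE7.nroots / 2) *
    ((Nat.card (ZMod 2) ^ 2 - 1) * (Nat.card (ZMod 2) ^ 6 - 1) * (Nat.card (ZMod 2) ^ 8 - 1) *
      (Nat.card (ZMod 2) ^ 10 - 1) * (Nat.card (ZMod 2) ^ 12 - 1) * (Nat.card (ZMod 2) ^ 14 - 1) *
      (Nat.card (ZMod 2) ^ 18 - 1))) = N
  rw [Nat.card_zmod, show chevE7.nroots / 2 = 63 from rfl] at hN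
  have h0 : N = 13 * (N / 13) := by subst hN; decide +kernel
  have h1 : ¬ 13 ∣ N / 13 := by subst hN; decide +kernel
  have hne : N / 13 ≠ 0 := fun e => h1 (e ▸ dvd_zero 13)
  rw [h0, Nat.factorization_mul (by norm_num) hne, Finsupp.add_apply, hp.factorization_self,
    Nat.factorization_eq_zero_of_not_dvd h1]

/-- The group over the two-element field has no element of order sixty-five. -/
theorem no_sixty_five (x : ↥(chevE7.group (ZMod 2))) : orderOf x ≠ 65 := by
  intro hx65
  haveI : Finite (GL chevE7.Idx (ZMod 2)) := inferInstance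
  haveI : Finite (GL chevE7.Idx BigF) := inferInstance
  haveI : Fact (Nat.Prime 13) := ⟨by norm_num⟩
  haveI : Fact (Nat.Prime 5) := ⟨by norm_num⟩
  letI : Fintype BigF := Fintype.ofFinite _
  let σ : BigF →+* BigF := (FiniteField.frobeniusAlgHom (ZMod 2) BigF).toRingHom
  have hσ : ∀ t, σ t = t ^ 2 := fun t => by
    show t ^ Fintype.card (ZMod 2) = t ^ 2
    rw [ZMod.card]
  let M := Matrix.GeneralLinearGroup.map (n := chevE7.Idx) σ
  let ι := Matrix.GeneralLinearGroup.map (n := chevE7.Idx) (algebraMap (ZMod 2) BigF)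
  let φ : ↥(chevE7.group (ZMod 2)) →* ↥(chevE7.group BigF) :=
    (ι.comp (chevE7.group (ZMod 2)).subtype).codRestrict _ (fun y => map_group_le cE _ y.2)
  have hφ : Function.Injective φ := fun a b hab => Subtype.ext (map_gl_injective _ (congrArg Subtype.val hab))
  have hfixι : ∀ y, M (ι y) = ι y := fun y => Units.ext (Matrix.ext fun i j =>
    (FiniteField.frobeniusAlgHom (ZMod 2) BigF).commutes _)
  obtain ⟨u, hu⟩ := exists_unit (m := 13) (by norm_num) (by decide +kernel)
  obtain ⟨z, hz⟩ := exists_unit (m := 125) (by norm_num) (by decide +kernel)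
  have hu13 : u ^ 13 = 1 := hu ▸ pow_orderOf_eq_one u
  set h := torusHom chevE7 tblE7 BigF (param u) with hh
  set n := wnu cE BigF sylE7_12.w with hn
  obtain ⟨g, hg, hσg⟩ : ∃ g ∈ chevE7.group BigF, M g = g * n := by
    let A := AlgebraicClosure BigF
    haveI : CharP A 2 := charP_of_injective_algebraMap (algebraMap BigF A).injective 2
    obtain ⟨G, hG, hGn⟩ := lang_chev cE fullCertE7 (p := 2) (f := 1) (by norm_num)
      (1 : GL chevE7.Idx A) (fun y hy => by simpa using hy)
      (monomial_le_group cE (wnu_mem cE sOK.isWord) : wnu cE A sylE7_12.w ∈ _)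
    set nA := wnu cE A sylE7_12.w
    set T := Matrix.GeneralLinearGroup.map (n := chevE7.Idx) (iterateFrobenius A 2 1)
    have hσG : T G = G * nA := by rw [← hGn]; group
    have hTn : T nA = nA := map_wnu cE _ _
    have hn12 : nA ^ 12 = 1 := by
      rw [← wnu_replicate, wnu_eq_of_perm (w := []) (fun i hi => ?_) (fun i hi => absurd hi List.not_mem_nil)
        sylE7_twelve_order]
      · simp [wnu]
      · obtain ⟨l, hl, hil⟩ := List.mem_flatten.1 hi
        rw [List.eq_of_mem_replicate hl] at hil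
        exact sOK.isWord i hil
    have hiter : ∀ m, (⇑T)^[m] G = G * nA ^ m := by
      intro m
      induction m with
      | zero => simp
      | succ m ih => rw [Function.iterate_succ_apply', ih, map_mul, map_pow, hσG, hTn, pow_succ', mul_assoc]
    let τ : A →+* A := iterateFrobenius A 2 300
    have hτ : ∀ t : A, τ t = t ^ Fintype.card BigF := fun t => by
      rw [← Nat.card_eq_fintype_card, card_bigF]; exact iterateFrobenius_def ..
    have hTm : ∀ m, ∀ i j, ((⇑T)^[m] G).val i j = (G.val i j) ^ 2 ^ m := by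
      intro m
      induction m with
      | zero => simp
      | succ m ih =>
        intro i j
        rw [Function.iterate_succ_apply', pow_succ, pow_mul, ← ih]
        exact iterateFrobenius_def ..
    have hn300 : nA ^ 300 = 1 := by
      calc nA ^ 300 = (nA ^ 12) ^ 25 := (pow_mul nA 12 25)
        _ = 1 := by rw [hn12, one_pow]
    have hτG : Matrix.GeneralLinearGroup.map τ G = G := by
      refine Units.ext (Matrix.ext fun i j => ?_)
      show τ (G.val i j) = G.val i j
      rw [hτ, ← Nat.card_eq_fintype_card, card_bigF, ← hTm, hiter, hn300, mul_one]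
    have hι : ∀ t, τ t = t ↔ t ∈ (algebraMap BigF A).range := fun t => by rw [hτ, pow_card_fixed]
    obtain ⟨g, hg, hgG⟩ : G ∈ (chevE7.group BigF).map (Matrix.GeneralLinearGroup.map (algebraMap BigF A)) := by
      rw [← fixedRoots_eq_map cE τ (algebraMap BigF A) hι, fixed_eq cE τ fullCertE7 torusHom_inj]
      exact ⟨hG, hτG⟩
    refine ⟨g, hg, map_gl_injective (algebraMap BigF A) ?_⟩
    rw [map_mul, hn, map_wnu, hgG, ← hσG, ← hgG]
    refine Units.ext (Matrix.ext fun i j => ?_)
    show algebraMap BigF A (σ (g.val i j)) = iterateFrobenius A 2 1 (algebraMap BigF A (g.val i j))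
    rw [hσ, map_pow, iterateFrobenius_def, pow_one]
  -- the element of order thirteen
  have hfix : M (g * h * g⁻¹) = g * h * g⁻¹ := by
    obtain ⟨e, he, hchr⟩ := torus_word_conj cE sOK.isWord (fun i => Units.map σ.toMonoidHom (param u i))
    have hnh : n * M h * n⁻¹ = h := by
      rw [hh, map_torusHom cE, he]
      refine torusHom_congr fun s hs => ?_
      have hs' := wperm_lt cE sOK.isWord.reverse hs
      have hrev := wperm_reverse cE sOK.isWord.reverse hs
      rw [List.reverse_reverse] at hrev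
      rw [← hrev, hchr _ hs', ← coe_uchr cE (param u), param_qact hu13 hs', Units.val_pow_eq_pow_val, ← hσ, coe_uchr]
      simp only [chr, map_prod, map_zpow₀]
      refine Finset.prod_congr rfl fun j hj => ?_
      simp [extend', Finset.mem_range.1 hj]
    rw [map_mul, map_mul, map_inv, hσg]
    calc g * n * M h * (g * n)⁻¹ = g * (n * M h * n⁻¹) * g⁻¹ := by group
      _ = _ := by rw [hnh]
  have hord : orderOf h = 13 := by
    rw [hh, orderOf_injective _ torusHom_inj]
    refine orderOf_eq_prime (funext fun j => ?_) fun e => ?_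
    · simp only [Pi.pow_apply, Pi.one_apply, param]
      rw [← zpow_natCast, ← zpow_mul, mul_comm, zpow_mul, zpow_natCast, hu13, one_zpow]
    · have e1 := congrArg (fun c => uchr cE c (tblE7.simp' 0)) e
      simp only [uchr_param, uchr_one'] at e1
      rw [← orderOf_dvd_iff_zpow_eq_one, hu] at e1
      have h2 := bval_key (cE.spec.simp_lt 0 (by decide))
      have e2 : sylE7_12.bval tblE7 2 0 (tblE7.simp' 0) % 13 = 0 := Int.emod_eq_zero_of_dvd e1
      rw [e2] at h2
      revert h2
      decide +kernel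
  obtain ⟨Z, hZ, hZι⟩ := descend_coprime cE fullCertE7 (F := ZMod 2) σ (fun t => by rw [hσ, ZMod.card]) inv_E7
    (show Nat.Coprime 2 13 by norm_num) (mul_mem (mul_mem hg (mem_group _)) (inv_mem hg)) hfix
    (by rw [← hord, ← MulAut.conj_apply, ← map_pow, pow_orderOf_eq_one, map_one])
  set z₁ : ↥(chevE7.group (ZMod 2)) := ⟨Z, hZ⟩
  have hz1 : orderOf z₁ = 13 := by
    rw [← orderOf_injective φ hφ, ← orderOf_injective (chevE7.group BigF).subtype Subtype.val_injective]
    show orderOf (ι Z) = 13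
    rw [hZι, ← MulAut.conj_apply, MulEquiv.orderOf_eq, hord]
  -- conjugate the element of order sixty-five to commute with it
  have hy : orderOf (x ^ 5) = 13 := by rw [orderOf_pow' _ (by norm_num), hx65]; norm_num
  have hcard : ∀ a : ↥(chevE7.group (ZMod 2)), orderOf a = 13 →
      Nat.card ↥(Subgroup.zpowers a) = 13 ^ (Nat.card ↥(chevE7.group (ZMod 2))).factorization 13 := fun a ha => by
    rw [Nat.card_zpowers, ha, group_thirteen, pow_one]
  obtain ⟨c₀, hc₀⟩ := MulAction.exists_smul_eq ↥(chevE7.group (ZMod 2))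
    (Sylow.ofCard _ (hcard _ hy)) (Sylow.ofCard _ (hcard _ hz1))
  set x' := MulAut.conj c₀ x with hx'
  have hzmem : z₁ ∈ Subgroup.zpowers (x' ^ 5) := by
    have h1 : z₁ ∈ ((c₀ • Sylow.ofCard _ (hcard _ hy) : Sylow 13 _) : Subgroup ↥(chevE7.group (ZMod 2))) := by
      rw [hc₀]; exact Subgroup.mem_zpowers z₁
    rw [Sylow.coe_subgroup_smul] at h1
    obtain ⟨w, ⟨k, hk⟩, hw⟩ := h1
    refine ⟨k, ?_⟩
    rw [← hw, ← hk]
    show (x' ^ 5) ^ k = MulAut.conj c₀ ((x ^ 5) ^ k)
    rw [map_zpow, map_pow]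
  set a := x' ^ 13
  have ha5 : orderOf a = 5 := by
    rw [orderOf_pow' _ (by norm_num), hx', MulEquiv.orderOf_eq, hx65]; norm_num
  have hcomm : Commute a z₁ := by
    exact commute_of_mem_zpowers hzmem
  -- inside the centraliser
  set gg : ↥(chevE7.group BigF) := ⟨g, hg⟩
  set H : ↥(chevE7.group BigF) := ⟨h, mem_group _⟩
  have hgH : gg⁻¹ * φ z₁ * gg = H := by
    refine Subtype.ext ?_
    show g⁻¹ * ι Z * g = h
    rw [hZι]; group
    try rw [hh]
  set X := gg⁻¹ * φ a * gg
  have hX5 : orderOf X = 5 := by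
    rw [show X = MulAut.conj gg⁻¹ (φ a) by simp [X], MulEquiv.orderOf_eq, orderOf_injective φ hφ, ha5]
  have hXH : Commute X H := by
    rw [← hgH]
    have := (hcomm.map φ).map (MulAut.conj gg⁻¹).toMonoidHom
    simpa [X] using this
  let C := Subgroup.centralizer ({H} : Set ↥(chevE7.group BigF))
  let T := ((chevE7.diagonalSubgroup BigF).subgroupOf (chevE7.group BigF)).subgroupOf C
  have hTcomm : ∀ a b : ↥C, a ∈ T → b ∈ T → a * b = b * a := fun a b ha hb =>
    Subtype.ext (Subtype.ext (G2Alt.diag_commute cE ha hb))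
  let P : Subgroup ↥C :=
    { carrier := {y | y ∈ T ∧ ∃ k, y ^ 5 ^ k = 1}
      one_mem' := ⟨one_mem T, 0, by simp⟩
      mul_mem' := by
        rintro a b ⟨ha, k, hka⟩ ⟨hb, l, hlb⟩
        refine ⟨mul_mem ha hb, k + l, ?_⟩
        rw [Commute.mul_pow (hTcomm a b ha hb), pow_add, pow_mul, hka, one_pow, one_mul, mul_comm (5 ^ k), pow_mul,
          hlb, one_pow]
      inv_mem' := by
        rintro a ⟨ha, k, hk⟩
        exact ⟨inv_mem ha, k, by rw [inv_pow, hk, inv_one]⟩ }
  have hP : IsPGroup 5 ↥P := fun y => by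
    obtain ⟨k, hk⟩ := y.2.2
    exact ⟨k, Subtype.ext hk⟩
  have hHmem : ∀ c : Fin chevE7.rank → BigFˣ, (⟨_, mem_group c⟩ : ↥(chevE7.group BigF)) ∈ C := fun c =>
    Subgroup.mem_centralizer_singleton_iff.2 (Subtype.ext (G2Alt.diag_commute cE (mem_diag c) (mem_diag _)))
  set r₀ : ↥C := ⟨⟨_, mem_group (rhoParam z)⟩, hHmem _⟩
  have hr₀ : r₀ ∈ P := ⟨mem_diag _, 3, by
    refine Subtype.ext (Subtype.ext ?_)
    show torusHom chevE7 tblE7 BigF (rhoParam z) ^ 5 ^ 3 = 1
    rw [← map_pow, ← map_one (torusHom chevE7 tblE7 BigF)]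
    congr 1
    funext j
    simp only [Pi.pow_apply, Pi.one_apply, rhoParam]
    rw [← zpow_natCast, ← zpow_mul, mul_comm, zpow_mul, zpow_natCast, show 5 ^ 3 = orderOf z by rw [hz]; norm_num,
      pow_orderOf_eq_one, one_zpow]⟩
  have hgrow : ∀ m : ↥C, m ∈ Subgroup.normalizer (P : Set ↥C) → (∃ k, m ^ 5 ^ k = 1) → m ∈ P := by
    intro m hm ⟨k, hk⟩
    let mg : GL chevE7.Idx BigF := ((m : ↥(chevE7.group BigF)) : GL chevE7.Idx BigF)
    have hmg : mg ∈ chevE7.group BigF := (m : ↥(chevE7.group BigF)).2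
    have hmh : mg * h * mg⁻¹ = h := by
      have e : mg * h = h * mg := congrArg Subtype.val (Subgroup.mem_centralizer_singleton_iff.1 m.2)
      rw [e]; group
    obtain ⟨N, hN, hfus⟩ := G2Alt.torus_fusion cE fullCertE7 hmg
    obtain ⟨w, -, hw, d, hd, rfl⟩ := G2Alt.monomial_word cE fullCertE7 chkWeylE7 hN
    have e1 := hfus h (mem_diag _) (by rw [hmh]; exact mem_diag _)
    rw [hmh, mul_inv_rev, show ∀ y : GL chevE7.Idx BigF, y * d * h * (d⁻¹ * y⁻¹) = y * (d * h * d⁻¹) * y⁻¹ from
      fun y => by group, G2Alt.diag_commute cE hd (mem_diag _), mul_inv_cancel_right] at e1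
    obtain ⟨e, he, hchr⟩ := torus_word_conj cE hw (param u)
    obtain ⟨p, hp, hpw, hperm⟩ := stab_word hu hw fun i hi => by
      refine Units.ext ?_
      rw [coe_uchr, coe_uchr, ← hchr _ (cE.spec.simp_lt i hi)]
      exact chr_eq_of_torusHom cE (by rw [← he, ← e1]) (wperm_lt cE hw (cE.spec.simp_lt i hi))
    obtain ⟨-, -, hsq, -⟩ := coset_ok p hp
    have hN2 : wnu cE BigF w * wnu cE BigF w = 1 := by
      rw [← wnu_append, wnu_eq_of_perm (w := []) (hw.append hw) (fun i hi => absurd hi List.not_mem_nil) fun i hi => ?_]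
      · simp [wnu]
      · have hi' := cE.spec.simp_lt i hi
        rw [wperm_append, hperm _ hi', hperm _ (wperm_lt cE hpw hi'), ← wperm_append, hsq i hi]
        rfl
    set r := torusHom chevE7 tblE7 BigF (rhoParam z)
    have hr1 : m * r₀ * m⁻¹ ∈ P := (Subgroup.mem_normalizer_iff.1 hm r₀).1 hr₀
    have hr1T : mg * r * mg⁻¹ ∈ chevE7.diagonalSubgroup BigF := hr1.1
    have hr2 : m * (m * r₀ * m⁻¹) * m⁻¹ ∈ P := (Subgroup.mem_normalizer_iff.1 hm _).1 hr1
    have hr2T : mg * (mg * r * mg⁻¹) * mg⁻¹ ∈ chevE7.diagonalSubgroup BigF := hr2.1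
    have hw2 : mg ^ 2 * r * (mg ^ 2)⁻¹ = r := by
      have f1 := hfus r (mem_diag _) hr1T
      have f2 := hfus _ hr1T hr2T
      have hdr : ∀ y ∈ chevE7.diagonalSubgroup BigF, wnu cE BigF w * d * y * (wnu cE BigF w * d)⁻¹ =
          wnu cE BigF w * y * (wnu cE BigF w)⁻¹ := fun y hy => by
        rw [mul_inv_rev, show wnu cE BigF w * d * y * (d⁻¹ * (wnu cE BigF w)⁻¹) =
          wnu cE BigF w * (d * y * d⁻¹) * (wnu cE BigF w)⁻¹ by group, G2Alt.diag_commute cE hd hy,
          mul_inv_cancel_right]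
      rw [hdr _ (mem_diag _)] at f1
      rw [hdr _ hr1T, f1] at f2
      calc mg ^ 2 * r * (mg ^ 2)⁻¹ = mg * (mg * r * mg⁻¹) * mg⁻¹ := by rw [pow_two]; group
        _ = _ := by
          rw [f1, f2]
          calc _ = (wnu cE BigF w * wnu cE BigF w) * torusHom chevE7 tblE7 BigF (rhoParam z) *
              (wnu cE BigF w * wnu cE BigF w)⁻¹ := by group
            _ = torusHom chevE7 tblE7 BigF (rhoParam z) := by rw [hN2]; group
    have hodd : mg ^ 5 ^ k = 1 := congrArg (fun y : ↥C => ((y : ↥(chevE7.group BigF)) : GL chevE7.Idx BigF)) hk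
    have hmr : Commute (mg ^ 2) r := by
      show mg ^ 2 * r = r * mg ^ 2
      conv_rhs => rw [← hw2]
      group
    obtain ⟨j, hj⟩ : ∃ j, 5 ^ k = 2 * j + 1 := ⟨5 ^ k / 2, by
      have := Nat.odd_iff.1 (Odd.pow (n := k) (by decide : Odd 5))
      omega⟩
    have hcom : Commute mg r := by
      have h1 := hmr.pow_left (j + 1)
      rwa [← pow_mul, show 2 * (j + 1) = 5 ^ k + 1 by omega, pow_succ, hodd, one_mul] at h1
    exact ⟨rho_centralizer hz hmg hcom.symm.eq, k, hk⟩
  have hXC : X ∈ C := Subgroup.mem_centralizer_singleton_iff.2 hXH.eq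
  obtain ⟨c, hc⟩ := exists_conj_of_no_growth P hP hgrow (x := (⟨X, hXC⟩ : ↥C))
    (Subtype.ext (by simpa [← hX5] using pow_orderOf_eq_one X))
  have hcd : ((c : ↥(chevE7.group BigF))⁻¹ * X * (c : ↥(chevE7.group BigF))).1 ∈ chevE7.diagonalSubgroup BigF := hc.1
  obtain ⟨d, hd⟩ : ∃ d, torusHom chevE7 tblE7 BigF d =
      ((c : ↥(chevE7.group BigF))⁻¹ * X * (c : ↥(chevE7.group BigF))).1 := by
    rw [← torusHom_range cE] at hcd; exact hcd
  have hcH : (c : ↥(chevE7.group BigF))⁻¹ * H * c = H := by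
    rw [mul_assoc, ← Subgroup.mem_centralizer_singleton_iff.1 c.2]; group
  obtain ⟨v, hv, hact⟩ := exists_qact σ hσ (mul_mem hg (c : ↥(chevE7.group BigF)).2)
  have hvh := hact (ι Z) (param u) (hfixι Z) (by
    have e := congrArg Subtype.val (show (gg * (c : ↥(chevE7.group BigF)))⁻¹ * φ z₁ * (gg * c) = H by
      rw [← hcH, ← hgH]; group)
    exact e)
  have hvd := hact (ι (a : GL chevE7.Idx (ZMod 2))) d (hfixι _) (by
    rw [hd]
    have e := congrArg Subtype.val (show (gg * (c : ↥(chevE7.group BigF)))⁻¹ * φ a * (gg * c) =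
      (c : ↥(chevE7.group BigF))⁻¹ * X * c by simp only [X]; group)
    exact e)
  have hwv : IsWord chevE7 (sylE7_12.w.reverse ++ v) := sOK.isWord.reverse.append hv
  obtain ⟨p, hp, hpw, hperm⟩ := stab_word hu hwv fun k hk => by
    have hk' := cE.spec.simp_lt k hk
    have hvk := wperm_lt cE hv hk'
    have e1 := param_qact hu13 (wperm_lt cE sOK.isWord.reverse hvk)
    have hrev := wperm_reverse cE sOK.isWord.reverse hvk
    rw [List.reverse_reverse] at hrev
    rw [hrev, hvh _ hk', ← wperm_append] at e1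
    refine Units.ext ?_
    have e2 := congrArg Units.val e1
    rw [Units.val_pow_eq_pow_val, Units.val_pow_eq_pow_val] at e2
    exact (CharTwo.sq_inj.1 e2).symm
  have hd1 : d = 1 := coset_zero hp (torusHom_inj (by
      rw [map_pow, hd, map_one, ← Subgroup.coe_pow,
        show (c : ↥(chevE7.group BigF))⁻¹ * X * c = MulAut.conj (c : ↥(chevE7.group BigF))⁻¹ X by simp, ← map_pow,
        show (5 : ℕ) = orderOf X from hX5.symm, pow_orderOf_eq_one, map_one, Subgroup.coe_one])) fun r hr => by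
    have hp' := wperm_lt cE hpw hr
    rw [wperm_append, ← hperm r hr, wperm_append]
    have hrev := wperm_reverse cE sOK.isWord.reverse (wperm_lt cE hv hr)
    rw [List.reverse_reverse] at hrev
    rw [hrev, hvd r hr]
  rw [hd1, map_one] at hd
  have hX1 : X = 1 := by
    have : (c : ↥(chevE7.group BigF))⁻¹ * X * c = 1 := Subtype.ext hd.symm
    calc X = (c : ↥(chevE7.group BigF)) * ((c : ↥(chevE7.group BigF))⁻¹ * X * c) * (c : ↥(chevE7.group BigF))⁻¹ := by
          group
      _ = 1 := by rw [this]; group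
  rw [hX1, orderOf_one] at hX5
  exact absurd hX5 (by norm_num)

end Cfsg.Lib.Chev.E7SixtyFive
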