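import Cfsg.Prelude.Def_Classical
import Cfsg.Agent.Lib.Linear.AbsorbPSpTori
import Cfsg.Agent.Lib.Linear.SylowLargeSp
import Cfsg.Agent.Lib.Linear.AbsorbPSL
import Cfsg.Agent.Lib.Linear.AbsorbPSUElems

/-!
Elements of order sixty-five in small classical groups over eight elements.
-/

set_option autoImplicit false

namespace Cfsg.Lib.Chev.E7SixtyFive

open Cfsg.Lib.Linear

theorem exists_orderOf_sixty_five {G : Type*} [Group G] [Finite G] {y : G} (h : 65 ∣ orderOf y) :
    ∃ z : G, orderOf z = 65 := by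
  obtain ⟨k, hk⟩ := h
  have hk0 : k ≠ 0 := fun e => by simpa [hk, e] using (orderOf_pos y).ne'
  exact ⟨y ^ k, by rw [orderOf_pow_of_dvd hk0 (hk ▸ dvd_mul_left k 65), hk, Nat.mul_div_cancel _ (Nat.pos_of_ne_zero hk0)]⟩

variable {F : Type*} [Field F] [Fintype F]

theorem fact_two : Fact (Nat.Prime 2) := ⟨Nat.prime_two⟩

theorem charP_two {k : ℕ} (h : Fintype.card F = 2 ^ k) : CharP F 2 := by
  haveI : Fact (Nat.Prime 2) := ⟨Nat.prime_two⟩
  refine charP_of_card_eq_prime_pow (f := k) ?_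
  simpa using h

theorem psl_two (h : Fintype.card F = 64) :
    ∃ z : Matrix.ProjectiveSpecialLinearGroup (Fin 2) F, orderOf z = 65 := by
  haveI := fact_two
  haveI := charP_two (k := 6) (F := F) (by rw [h]; norm_num)
  obtain ⟨y, hy⟩ := AbsorbPSL.exists_singer (n := 2) (F := F) 2
  rw [h, show AbsorbPSL.singerN 2 64 = 65 by decide] at hy
  exact exists_orderOf_sixty_five hy

theorem psl_four (h : Fintype.card F = 8) :
    ∃ z : Matrix.ProjectiveSpecialLinearGroup (Fin 4) F, orderOf z = 65 := by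
  haveI := fact_two
  haveI := charP_two (k := 3) (F := F) (by rw [h]; norm_num)
  obtain ⟨y, hy⟩ := AbsorbPSL.exists_singer (n := 4) (F := F) 2
  rw [h] at hy
  exact exists_orderOf_sixty_five (dvd_trans (by decide) hy)

theorem psu_four (h : Fintype.card F = 64) : ∃ z : Cfsg.PSU 4 F 8, orderOf z = 65 := by
  haveI := fact_two
  haveI := charP_two (k := 6) (F := F) (by rw [h]; norm_num)
  obtain ⟨g, hg⟩ := AbsorbPSU.exists_torus (F := F) (q := 8) (n := 4) (by rw [h]; norm_num) 2 (by norm_num)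
  exact exists_orderOf_sixty_five (dvd_trans (by decide) hg)

theorem psp_two (h : Fintype.card F = 8) : ∃ z : Cfsg.PSp 2 F, orderOf z = 65 := by
  haveI := fact_two
  haveI := charP_two (k := 3) (F := F) (by rw [h]; norm_num)
  obtain ⟨⟨g, hg⟩, -⟩ := AbsorbPSp.exists_tori_any (F := F) 2 2
  refine exists_orderOf_sixty_five (y := AbsorbPSp.cls g) ?_
  rcases (AbsorbPSp.cls_pow_eq_one_iff g _).1 (pow_orderOf_eq_one (AbsorbPSp.cls g)) with e | e
  · have := (hg _).1 e
    rwa [h] at this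
  · have := (hg _).2 e
    rw [h] at this
    exact (by norm_num : Nat.Coprime 65 2).dvd_of_dvd_mul_left this

theorem psp_three (h : Fintype.card F = 8) : ∃ z : Cfsg.PSp 3 F, orderOf z = 65 := by
  haveI := fact_two
  haveI := charP_two (k := 3) (F := F) (by rw [h]; norm_num)
  obtain ⟨⟨g, hg⟩, -⟩ := AbsorbPSp.exists_tori_any (F := F) 2 2
  let G : Matrix.symplecticGroup (Fin 3) F := Cfsg.Agent.SylowLargeSp.blockHom 2 1 1 (fun _ => g)
  refine exists_orderOf_sixty_five (y := AbsorbPSp.cls G) ?_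
  have hG : G ^ orderOf (AbsorbPSp.cls G) = 1 := by
    rcases (AbsorbPSp.cls_pow_eq_one_iff G _).1 (pow_orderOf_eq_one (AbsorbPSp.cls G)) with e | e
    · exact Subtype.ext (by simpa using e)
    · refine Subtype.ext ?_
      rw [SubmonoidClass.coe_pow, e]
      ext i j
      rw [Matrix.neg_apply, CharTwo.neg_eq]
      rfl
  generalize orderOf (AbsorbPSp.cls G) = N at hG ⊢
  rw [show G ^ N = Cfsg.Agent.SylowLargeSp.blockHom 2 1 1 ((fun _ => g) ^ N) from (map_pow _ _ _).symm] at hG
  have e := congrFun (Cfsg.Agent.SylowLargeSp.blockHom_injective 2 1 1 (hG.trans (map_one _).symm)) 0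
  have := (hg N).1 (by simpa [← SubmonoidClass.coe_pow] using congrArg Subtype.val e)
  rwa [h] at this

end Cfsg.Lib.Chev.E7SixtyFive
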